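import Cfsg.Agent.J4Rep94.H24.Cert

/-!
# A group of order 24 embedded by the map to permutations
-/

set_option autoImplicit false
set_option maxRecDepth 100000

namespace Cfsg.Agent.J4Rep94

open Cfsg.Agent.CosetEnum Cfsg.Agent.Golay

/-- Products of the generators `x` and `x ^ y`. -/
def k24Parts : List (List (List ℕ)) := [[],
  [[0]],
  [[2,0,1]],
  [[0],[2,0,1]],
  [[2,0,1],[0]],
  [[0],[2,0,1],[0]],
  [[2,0,1],[0],[2,0,1]],
  [[0],[2,0,1],[0],[2,0,1]],
  [[2,0,1],[0],[2,0,1],[0]],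
  [[0],[2,0,1],[0],[2,0,1],[0]],
  [[2,0,1],[0],[2,0,1],[0],[2,0,1]],
  [[0],[2,0,1],[0],[2,0,1],[0],[2,0,1]],
  [[2,0,1],[0],[2,0,1],[0],[2,0,1],[0]],
  [[0],[2,0,1],[0],[2,0,1],[0],[2,0,1],[0]],
  [[2,0,1],[0],[2,0,1],[0],[2,0,1],[0],[2,0,1]],
  [[0],[2,0,1],[0],[2,0,1],[0],[2,0,1],[0],[2,0,1]],
  [[2,0,1],[0],[2,0,1],[0],[2,0,1],[0],[2,0,1],[0]],
  [[0],[2,0,1],[0],[2,0,1],[0],[2,0,1],[0],[2,0,1],[0]],
  [[2,0,1],[0],[2,0,1],[0],[2,0,1],[0],[2,0,1],[0],[2,0,1]],
  [[0],[2,0,1],[0],[2,0,1],[0],[2,0,1],[0],[2,0,1],[0],[2,0,1]],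
  [[2,0,1],[0],[2,0,1],[0],[2,0,1],[0],[2,0,1],[0],[2,0,1],[0]],
  [[0],[2,0,1],[0],[2,0,1],[0],[2,0,1],[0],[2,0,1],[0],[2,0,1],[0]],
  [[2,0,1],[0],[2,0,1],[0],[2,0,1],[0],[2,0,1],[0],[2,0,1],[0],[2,0,1]],
  [[0],[2,0,1],[0],[2,0,1],[0],[2,0,1],[0],[2,0,1],[0],[2,0,1],[0],[2,0,1]]]

/-- The products, as words. -/
def k24Words : List (List ℕ) := k24Parts.map List.flatten

theorem k24_split : ∀ i : Fin 24, ∃ l : List (List ℕ), (∀ W ∈ l, W ∈ H24.gens) ∧
    evalWord val7 l.flatten = evalWord val7 (k24Words.getD i.1 []) := fun i =>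
  ⟨k24Parts.getD i.1 [],
    (by decide +kernel : ∀ i : Fin 24, ∀ W ∈ k24Parts.getD i.1 [], W ∈ H24.gens) i, by
    rw [(by decide +kernel : ∀ i : Fin 24, k24Words.getD i.1 [] = (k24Parts.getD i.1 []).flatten) i]⟩

theorem k24_table : ∀ i j : Fin 24, (∀ k : Fin 24, (wordTab (k24Words.getD i.1 [])).getD k.1 0 =
    (wordTab (k24Words.getD j.1 [])).getD k.1 0) → i = j := by
  decide +kernel

theorem k24_distinct (i j : Fin 24) (h : ∀ k < 24, (wordTab (k24Words.getD i.1 [])).getD k 0 =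
    (wordTab (k24Words.getD j.1 [])).getD k 0) : i = j := k24_table i j fun k => h k.1 k.2

theorem mem_k24_of_word : ∀ i : Fin 24, evalWord val7 (k24Words.getD i.1 []) ∈ wspan val7 H24.gens := by
  have hgen : ∀ W ∈ H24.gens, evalWord val7 W ∈ wspan val7 H24.gens := fun W hW =>
    evalWord_mem_wspan val7 hW
  have key : ∀ l : List (List ℕ), (∀ W ∈ l, W ∈ H24.gens) →
      evalWord val7 l.flatten ∈ wspan val7 H24.gens := by
    intro l hl
    induction l with
    | nil => exact one_mem _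
    | cons W l ih =>
      rw [List.flatten_cons, evalWord_append]
      exact mul_mem (hgen W (hl W List.mem_cons_self)) (ih fun V hV => hl V (List.mem_cons_of_mem _ hV))
  intro i
  obtain ⟨l, hl, he⟩ := k24_split i
  rw [← he]
  exact key l hl

/-- An element of the group that maps to the identity is trivial. -/
theorem eq_one_of_mem_k24 {W : List ℕ} (hW : evalWord val7 W ∈ wspan val7 H24.gens)
    (ht : wordTab W = idTab) : evalWord val7 W = 1 := by
  obtain ⟨hne, hle⟩ := H24.result_index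
  rw [show H24.subs = [] from rfl, wspan_nil, Subgroup.relIndex_bot_left] at hne hle
  haveI : Finite (wspan val7 H24.gens) := Nat.finite_of_card_ne_zero hne
  let F : Fin 24 → wspan val7 H24.gens := fun i => ⟨_, mem_k24_of_word i⟩
  have hinj : Function.Injective F := by
    intro i j hij
    have h := congrArg (fun g : wspan val7 H24.gens => pi24 (g : P7)) hij
    simp only [F, pi24_word] at h
    have h2 := (tab_word (k24Words.getD i.1 []))
    rw [h] at h2
    have h3 := tab_word (k24Words.getD j.1 [])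
    have he : ∀ k < 24, (wordTab (k24Words.getD i.1 [])).getD k 0 =
        (wordTab (k24Words.getD j.1 [])).getD k 0 := fun k hk => by rw [← h2 k hk, ← h3 k hk]
    exact k24_distinct i j he
  have hcard : Nat.card (wspan val7 H24.gens) = Nat.card (Fin 24) :=
    le_antisymm (by rw [Nat.card_fin]; exact hle) (Nat.card_le_card_of_injective F hinj)
  have hbij := (Nat.bijective_iff_injective_and_card F).2 ⟨hinj, hcard.symm⟩
  obtain ⟨i, hi⟩ := hbij.2 ⟨_, hW⟩
  have hi' : evalWord val7 (k24Words.getD i.1 []) = evalWord val7 W := congrArg Subtype.val hi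
  have h := congrArg pi24 hi'
  rw [pi24_word, pi24_word, word24_eq_one ht] at h
  have h0 : i = 0 := k24_distinct i 0 fun k hk => by
    rw [← tab_word _ k hk, h, ← tab_word _ k hk]
    rfl
  rw [h0] at hi'
  exact hi'.symm

end Cfsg.Agent.J4Rep94
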