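import Mathlib
import Cfsg.Agent.J4Rep94.Data

/-!
# Linear maps on bit vectors and a nontrivial homomorphism from the presented Janko group `J₄`
-/

set_option autoImplicit false

namespace Cfsg.Agent.J4Rep94

/-- Feed a number to a function, evaluating it first. -/
def force {α : Type} (v : ℕ) (k : ℕ → α) : α :=
  match v with
  | 0 => k 0
  | n + 1 => k (n + 1)

theorem force_eq {α : Type} (v : ℕ) (k : ℕ → α) : force v k = k v := by
  cases v <;> rfl

/-- The image of the bit vector `v` under the matrix with the given rows. -/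
def vm : List ℕ → ℕ → ℕ
  | [], _ => 0
  | r :: rs, v => force v fun w => (bif w.testBit 0 then r else 0) ^^^ vm rs (w / 2)

theorem vm_xor : ∀ (M : List ℕ) (a b : ℕ), vm M (a ^^^ b) = vm M a ^^^ vm M b
  | [], a, b => by simp [vm]
  | r :: rs, a, b => by
    have hdiv : (a ^^^ b) / 2 = a / 2 ^^^ b / 2 := by
      apply Nat.eq_of_testBit_eq
      intro i
      simp [Nat.testBit_div_two]
    simp only [vm, force_eq, hdiv, vm_xor rs, Nat.testBit_xor]
    cases a.testBit 0 <;> cases b.testBit 0 <;>
      simp [Nat.xor_assoc, Nat.xor_comm, Nat.xor_left_comm]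

theorem vm_zero : ∀ (M : List ℕ), vm M 0 = 0
  | [] => rfl
  | r :: rs => by simp [vm, force_eq, vm_zero rs]

theorem vm_lt {n : ℕ} : ∀ {M : List ℕ}, (∀ r ∈ M, r < 2 ^ n) → ∀ v, vm M v < 2 ^ n
  | [], _, v => by simp [vm]
  | r :: rs, h, v => by
    rw [vm, force_eq]
    refine Nat.xor_lt_two_pow ?_ (vm_lt (fun x hx => h x (List.mem_cons_of_mem _ hx)) _)
    cases v.testBit 0
    · exact Nat.two_pow_pos n
    · exact h r List.mem_cons_self

/-- Apply the matrices of a list in turn. -/
def vmList : List (List ℕ) → ℕ → ℕ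
  | [], v => v
  | M :: Ms, v => force (vm M v) fun w => vmList Ms w

theorem vmList_xor : ∀ (Ms : List (List ℕ)) (a b : ℕ), vmList Ms (a ^^^ b) = vmList Ms a ^^^ vmList Ms b
  | [], _, _ => rfl
  | M :: Ms, a, b => by simp only [vmList, force_eq, vm_xor, vmList_xor Ms]

theorem vmList_zero : ∀ (Ms : List (List ℕ)), vmList Ms 0 = 0
  | [] => rfl
  | M :: Ms => by simp only [vmList, force_eq, vm_zero, vmList_zero Ms]

theorem vmList_append : ∀ (Ms Ns : List (List ℕ)) (v : ℕ), vmList (Ms ++ Ns) v = vmList Ns (vmList Ms v)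
  | [], _, _ => rfl
  | M :: Ms, Ns, v => by simp only [List.cons_append, vmList, force_eq, vmList_append Ms Ns]

/-- A product of matrices fixes every unit vector of length below `n`. -/
def checkId (Ms : List (List ℕ)) (n : ℕ) : Bool :=
  (List.range n).all fun i => Nat.beq (vmList Ms (2 ^ i)) (2 ^ i)

theorem id_of_check {Ms : List (List ℕ)} : ∀ {n : ℕ}, checkId Ms n = true →
    ∀ v < 2 ^ n, vmList Ms v = v
  | 0, _, v, hv => by
    obtain rfl : v = 0 := by simpa using hv
    exact vmList_zero Ms
  | n + 1, h, v, hv => by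
    have hall : ∀ i < n + 1, vmList Ms (2 ^ i) = 2 ^ i := fun i hi =>
      Nat.eq_of_beq_eq_true (List.all_eq_true.mp h i (List.mem_range.mpr hi))
    have h' : checkId Ms n = true := List.all_eq_true.mpr fun i hi => by
      rw [hall i (Nat.lt_succ_of_lt (List.mem_range.mp hi))]; exact Nat.beq_refl _
    by_cases hlt : v < 2 ^ n
    · exact id_of_check h' v hlt
    · have hb : v.testBit n = true := by
        obtain ⟨j, hj, hjn⟩ := Nat.exists_ge_and_testBit_of_ge_two_pow (Nat.le_of_not_lt hlt)
        rcases Nat.lt_or_ge j (n + 1) with h1 | h1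
        · exact (show j = n by omega) ▸ hjn
        · have hlt' : v < 2 ^ j := lt_of_lt_of_le hv (Nat.pow_le_pow_right (by norm_num) h1)
          rw [Nat.testBit_lt_two_pow hlt'] at hjn
          exact absurd hjn Bool.false_ne_true
      have hrest : v ^^^ 2 ^ n < 2 ^ n := by
        apply Nat.lt_pow_two_of_testBit
        intro i hi
        rw [Nat.testBit_xor, Nat.testBit_two_pow]
        rcases Nat.lt_or_ge n i with h1 | h1
        · have : v.testBit i = false :=
            Nat.testBit_lt_two_pow (lt_of_lt_of_le hv (Nat.pow_le_pow_right (by norm_num) h1))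
          simp [this, Nat.ne_of_lt h1]
        · obtain rfl : i = n := by omega
          simp [hb]
      have hv' : v = (v ^^^ 2 ^ n) ^^^ 2 ^ n := by simp [Nat.xor_assoc]
      rw [hv', vmList_xor, id_of_check h' _ hrest, hall n n.lt_succ_self]

/-- Bit vectors of length 112. -/
abbrev Bv : Type := {v : ℕ // v < 2 ^ 112}

/-- Every row of a matrix is short. -/
def rowsOk (M : List ℕ) : Bool := M.all fun r => Nat.blt r (2 ^ 112)

theorem vm_lt_of_ok {M : List ℕ} (h : rowsOk M = true) (v : ℕ) : vm M v < 2 ^ 112 :=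
  vm_lt (fun r hr => Nat.le_of_ble_eq_true (List.all_eq_true.mp h r hr)) v

/-- The permutation of bit vectors given by two mutually inverse matrices. -/
def mkPerm (M N : List ℕ) (hM : rowsOk M = true) (hN : rowsOk N = true)
    (h1 : checkId [M, N] 112 = true) (h2 : checkId [N, M] 112 = true) : Equiv.Perm Bv where
  toFun v := ⟨vm M v.1, vm_lt_of_ok hM _⟩
  invFun v := ⟨vm N v.1, vm_lt_of_ok hN _⟩
  left_inv v := Subtype.ext (by simpa [vmList, force_eq] using id_of_check h1 v.1 v.2)
  right_inv v := Subtype.ext (by simpa [vmList, force_eq] using id_of_check h2 v.1 v.2)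

end Cfsg.Agent.J4Rep94
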