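import Cfsg.Agent.Lib.CosetEnum.Local

/-!
# Certificates for orbits of words on cosets
-/

set_option autoImplicit false

namespace Cfsg.Agent.J4Rep94

open Cfsg.Agent.CosetEnum

variable {G : Type} [Group G]

/-- One walk from the node of a main point along a word, ending at the node of a main point. -/
noncomputable def checkWalk (S : Sys) (N : ℕ) (T : DTree ℕ) (n i : ℕ) (W : List ℕ) (v : ℕ) :
    Option ℕ :=
  bif Nat.blt (Nat.land v 1048575) n then
    match S.walk N (Nat.land (Nat.shiftRight v 20) 1048575) (Nat.shiftRight v 40) (T.get i) W with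
    | none => none
    | some (j, v') => bif Nat.beq j (T.get (Nat.land v 1048575)) then some v' else none
  else none

/-- All walks from one main point. -/
noncomputable def checkGens (S : Sys) (N : ℕ) (T : DTree ℕ) (n i : ℕ) : List (List ℕ) → ℕ → Option ℕ
  | [], v => some v
  | W :: Ws, v =>
    match checkWalk S N T n i W v with
    | none => none
    | some v' => checkGens S N T n i Ws v'

/-- All walks from the main points `i, ..., i + c - 1`. -/
noncomputable def checkMain (S : Sys) (N : ℕ) (T : DTree ℕ) (n : ℕ) (Ws : List (List ℕ)) :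
    ℕ → ℕ → ℕ → Bool
  | _, 0, _ => true
  | i, c + 1, v =>
    match checkGens S N T n i Ws v with
    | none => false
    | some v' => forceNat v' (fun v'' => forceNat (i + 1) (fun i' => checkMain S N T n Ws i' c v''))

/-- Checks of a list of chunks of walks, starting with main point `i`. -/
noncomputable def MainOK (S : Sys) (N : ℕ) (T : DTree ℕ) (n : ℕ) (Ws : List (List ℕ)) (i : ℕ) :
    List (ℕ × ℕ) → Prop
  | [] => True
  | cv :: rest => checkMain S N T n Ws i cv.1 cv.2 = true ∧ MainOK S N T n Ws (i + cv.1) rest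

section

variable {X : Type} {act : ℕ → X → X} {S : Sys} {N : ℕ} {T : DTree ℕ} {n : ℕ}

theorem checkGens_spec (hA : S.IsAction act) {f : ℕ → X} (hN : ∀ k < N, S.Holds act f k) {i : ℕ} :
    ∀ {Ws : List (List ℕ)} {v v' : ℕ}, checkGens S N T n i Ws v = some v' →
      ∀ W ∈ Ws, ∃ j < n, run act W (f (T.get i)) = f (T.get j)
  | [], _, _, _, W, hW => absurd hW List.not_mem_nil
  | W₀ :: Ws, v, v', h, W, hW => by
    rw [checkGens] at h
    split at h
    · simp at h
    rename_i v₁ hv₁
    rcases List.mem_cons.1 hW with rfl | hW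
    · unfold checkWalk at hv₁
      cases hlt : Nat.blt (Nat.land v 1048575) n with
      | false => rw [hlt, cond_false] at hv₁; exact absurd hv₁ (by simp)
      | true =>
        rw [hlt, cond_true] at hv₁
        split at hv₁
        · simp at hv₁
        rename_i j v₂ hw
        cases hj : Nat.beq j (T.get (Nat.land v 1048575)) with
        | false => rw [hj, cond_false] at hv₁; exact absurd hv₁ (by simp)
        | true =>
          refine ⟨Nat.land v 1048575, lt_of_blt hlt, ?_⟩
          rw [S.walk_spec hA hN hw, Nat.eq_of_beq_eq_true hj]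
    · exact checkGens_spec hA hN h W hW

theorem checkMain_spec (hA : S.IsAction act) {f : ℕ → X} (hN : ∀ k < N, S.Holds act f k)
    {Ws : List (List ℕ)} :
    ∀ {i c v : ℕ}, checkMain S N T n Ws i c v = true →
      ∀ i', i ≤ i' → i' < i + c → ∀ W ∈ Ws, ∃ j < n, run act W (f (T.get i')) = f (T.get j)
  | i, 0, v, _, i', h1, h2 => by omega
  | i, c + 1, v, h, i', h1, h2 => by
    rw [checkMain] at h
    simp only [forceNat_eq] at h
    split at h
    · simp at h
    rename_i v' hr
    rcases Nat.eq_or_lt_of_le h1 with rfl | h'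
    · exact checkGens_spec hA hN hr
    · exact checkMain_spec hA hN h i' (by omega) (by omega)

theorem MainOK.spec (hA : S.IsAction act) {f : ℕ → X} (hN : ∀ k < N, S.Holds act f k)
    {Ws : List (List ℕ)} :
    ∀ {cs : List (ℕ × ℕ)} {i : ℕ}, MainOK S N T n Ws i cs →
      ∀ i', i ≤ i' → i' < i + (cs.map Prod.fst).sum → ∀ W ∈ Ws,
        ∃ j < n, run act W (f (T.get i')) = f (T.get j)
  | [], i, _, i', h1, h2 => by
    simp only [List.map_nil, List.sum_nil] at h2
    omega
  | cv :: rest, i, h, i', h1, h2 => by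
    simp only [List.map_cons, List.sum_cons] at h2
    rcases Nat.lt_or_ge i' (i + cv.1) with h' | h'
    · exact checkMain_spec hA hN h.1 i' h1 h'
    · exact MainOK.spec hA hN h.2 i' h' (by omega)

end

/-- A finite set of cosets stable under some elements bounds a relative index. -/
theorem relIndex_le_of_stable {K H : Subgroup G} {gens : Set G} (hH : H ≤ Subgroup.closure gens)
    {n : ℕ} (f : ℕ → G ⧸ K) (hn : 0 < n) (h0 : f 0 = ((1 : G) : G ⧸ K))
    (hclosed : ∀ i < n, ∀ g ∈ gens, ∃ j < n, g⁻¹ • f i = f j) :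
    K.relIndex H ≠ 0 ∧ K.relIndex H ≤ n := by
  let O : Set (G ⧸ K) := f '' Set.Iio n
  have hmaps : ∀ g ∈ gens, Set.MapsTo (fun q : G ⧸ K => g⁻¹ • q) O O := by
    rintro g hg _ ⟨i, hi, rfl⟩
    obtain ⟨j, hj, hij⟩ := hclosed i hi g hg
    exact ⟨j, hj, hij.symm⟩
  have hfin : O.Finite := (Set.finite_Iio n).image f
  have hstab : ∀ g ∈ Subgroup.closure gens, ∀ q ∈ O, g • q ∈ O ∧ g⁻¹ • q ∈ O := by
    intro g hg
    induction hg using Subgroup.closure_induction with
    | mem x hx =>
      intro q hq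
      refine ⟨?_, hmaps x hx hq⟩
      obtain ⟨p, hp, hpq⟩ := ((hfin.injOn_iff_bijOn_of_mapsTo (hmaps x hx)).mp
        (MulAction.injective _).injOn).surjOn hq
      rw [← hpq, smul_inv_smul]
      exact hp
    | one => intro q hq; simpa using hq
    | mul a b _ _ ha hb =>
      intro q hq
      rw [mul_smul, mul_inv_rev, mul_smul]
      exact ⟨(ha _ (hb q hq).1).1, (hb _ (ha q hq).2).2⟩
    | inv a _ ha =>
      intro q hq
      rw [inv_inv]
      exact ⟨(ha q hq).2, (ha q hq).1⟩
  let x₀ : G ⧸ K := ((1 : G) : G ⧸ K)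
  have horb : MulAction.orbit H x₀ ⊆ O := by
    rintro _ ⟨h, rfl⟩
    exact (hstab _ (hH h.2) x₀ ⟨0, hn, h0⟩).1
  have hst : MulAction.stabilizer H x₀ = K.subgroupOf H := by
    ext g
    rw [Subgroup.mem_subgroupOf, MulAction.mem_stabilizer_iff]
    show (g : G) • (((1 : G) : G ⧸ K)) = _ ↔ _
    rw [MulAction.Quotient.smul_coe, QuotientGroup.eq, smul_eq_mul, mul_one, mul_one,
      inv_mem_iff]
  have hidx : K.relIndex H = (MulAction.orbit H x₀).ncard := by
    rw [← MulAction.index_stabilizer, hst]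
    rfl
  rw [hidx]
  refine ⟨Set.ncard_ne_zero_of_mem (MulAction.mem_orbit_self x₀) (hfin.subset horb), ?_⟩
  calc (MulAction.orbit H x₀).ncard ≤ O.ncard := Set.ncard_le_ncard horb hfin
    _ ≤ (Set.Iio n).ncard := Set.ncard_image_le (Set.finite_Iio n)
    _ = n := by rw [← Finset.coe_Iio, Set.ncard_coe_finset, Nat.card_Iio]

/-- The subgroup generated by some words. -/
def wspan (val : ℕ → G) (Ws : List (List ℕ)) : Subgroup G :=
  Subgroup.closure {g | ∃ W ∈ Ws, evalWord val W = g}

theorem evalWord_mem_wspan (val : ℕ → G) {Ws : List (List ℕ)} {W : List ℕ} (h : W ∈ Ws) :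
    evalWord val W ∈ wspan val Ws := Subgroup.subset_closure ⟨W, h, rfl⟩

theorem wspan_mono (val : ℕ → G) {Ws Ws' : List (List ℕ)} (h : Ws ⊆ Ws') :
    wspan val Ws ≤ wspan val Ws' :=
  Subgroup.closure_mono fun _ ⟨W, hW, hg⟩ => ⟨W, h hW, hg⟩

theorem wspan_nil (val : ℕ → G) : wspan val [] = ⊥ := by
  simp [wspan]

/-- A certificate bounds the number of cosets met by the group of some words. -/
theorem relIndex_le_of_cert {S : Sys} {val : ℕ → G} (hL : Letters S val) {rels : List (List ℕ)}
    (hrels : ∀ W ∈ rels, evalWord val W = 1) (Ks : List (List ℕ))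
    (hrules : S.rules.all (fun R => R.check S rels Ks) = true)
    (dcs : List ℕ) (fcs mcs : List (ℕ × ℕ)) {D N n : ℕ} {T : DTree ℕ} (hd : S.DefsOK 0 dcs)
    (hds : dcs.sum = D) (hf : S.FactsOK D fcs) (hfs : D + (fcs.map Prod.fst).sum = N)
    (Ws : List (List ℕ)) (hm : MainOK S N T n Ws 0 mcs) (hms : (mcs.map Prod.fst).sum = n)
    (hn : 0 < n) (hT : T.get 0 = 0) :
    (wspan val Ks).relIndex (wspan val Ws) ≠ 0 ∧ (wspan val Ks).relIndex (wspan val Ws) ≤ n := by
  have hA := hL.isAction (wspan val Ks)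
  obtain ⟨f, h0, hdef⟩ := S.exists_map (cosetAct val (wspan val Ks))
    (((1 : G) : G ⧸ wspan val Ks)) (D := D) fun k hk => hd.spec k (Nat.zero_le _) (by omega)
  have hR : ∀ i, (S.rules.get i).Valid (cosetAct val (wspan val Ks)) (f 0) := fun i => by
    rw [h0]
    exact hL.valid hrels (fun W hW => evalWord_mem_wspan val hW) (DTree.all_get hrules i)
  have hfacts := hf.spec hA hR hdef
  refine relIndex_le_of_stable (gens := {g | ∃ W ∈ Ws, evalWord val W = g}) le_rfl
    (fun i => f (T.get i)) hn (by show f (T.get 0) = _; rw [hT, h0]) ?_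
  rintro i hi g ⟨W, hW, rfl⟩
  obtain ⟨j, hj, hij⟩ := hm.spec hA (f := f) (fun k hk => hfacts k (by omega)) i (Nat.zero_le _)
    (by omega) W hW
  exact ⟨j, hj, by rw [← run_cosetAct]; exact hij⟩

/-- A certificate puts a word into the group of some words. -/
theorem mem_of_cert {S : Sys} {val : ℕ → G} (hL : Letters S val) {rels : List (List ℕ)}
    (hrels : ∀ W ∈ rels, evalWord val W = 1) (Ks : List (List ℕ))
    (hrules : S.rules.all (fun R => R.check S rels Ks) = true)
    (dcs : List ℕ) (fcs : List (ℕ × ℕ)) {D N : ℕ} (hd : S.DefsOK 0 dcs) (hds : dcs.sum = D)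
    (hf : S.FactsOK D fcs) (hfs : D + (fcs.map Prod.fst).sum = N)
    {W : List ℕ} {L v : ℕ} (hw : (S.walk N L v 0 W).map Prod.fst = some 0) :
    evalWord val W ∈ wspan val Ks := by
  have hA := hL.isAction (wspan val Ks)
  obtain ⟨f, h0, hdef⟩ := S.exists_map (cosetAct val (wspan val Ks))
    (((1 : G) : G ⧸ wspan val Ks)) (D := D) fun k hk => hd.spec k (Nat.zero_le _) (by omega)
  have hR : ∀ i, (S.rules.get i).Valid (cosetAct val (wspan val Ks)) (f 0) := fun i => by
    rw [h0]
    exact hL.valid hrels (fun W hW => evalWord_mem_wspan val hW) (DTree.all_get hrules i)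
  have hfacts := hf.spec hA hR hdef
  obtain ⟨⟨y, v'⟩, hy, rfl⟩ := Option.map_eq_some_iff.1 hw
  have h := S.walk_spec hA (f := f) (k := N) (fun k hk => hfacts k (by omega)) hy
  rw [h0, run_cosetAct, MulAction.Quotient.smul_coe, QuotientGroup.eq, smul_eq_mul, mul_one,
    mul_one, inv_inv] at h
  exact h

end Cfsg.Agent.J4Rep94
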