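import Cfsg.Agent.J4Rep94.Pow
import Cfsg.Agent.J4Rep94.Prod

/-!
# Relations holding in the matrix representation, part 1
-/

set_option autoImplicit false
set_option maxRecDepth 100000

namespace Cfsg.Agent.J4Rep94

theorem word3 : ev [0, 2, 0, 1] ^ 12 = 1 :=
  pow_eq_one (eq_of_check pm3 (by decide +kernel)) (by decide +kernel)

theorem word5 : ev [0, 1, 0, 1, 0, 2, 0, 1, 0, 2, 0, 1, 0, 2] ^ 4 = 1 :=
  pow_eq_one (eq_of_check pm5 (by decide +kernel)) (by decide +kernel)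

theorem word6 : ev ([0, 1, 0, 1, 0, 2, 0, 1, 0, 1, 0, 2, 0, 1, 0, 1, 0, 2] ++ [0, 1, 0, 2, 0, 2, 0, 1, 0, 2, 0, 2, 0, 1, 0, 2, 0, 2]) ^ 1 = 1 :=
  pow_eq_one (eq_of_append (eq_of_check pa6 (by decide +kernel)) (eq_of_check pb6 (by decide +kernel))
    (C := pm6) (by decide +kernel)) (by decide +kernel)

end Cfsg.Agent.J4Rep94
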