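import Cfsg.Agent.J4Rep94.Pow
import Cfsg.Agent.J4Rep94.Prod

/-!
# Relations holding in the matrix representation, part 2
-/

set_option autoImplicit false
set_option maxRecDepth 100000

namespace Cfsg.Agent.J4Rep94

theorem word0 : ev [0] ^ 2 = 1 :=
  pow_eq_one (eq_of_check pm0 (by decide +kernel)) (by decide +kernel)

theorem word1 : ev [1] ^ 3 = 1 :=
  pow_eq_one (eq_of_check pm1 (by decide +kernel)) (by decide +kernel)

theorem word2 : ev [0, 1] ^ 23 = 1 :=
  pow_eq_one (eq_of_check pm2 (by decide +kernel)) (by decide +kernel)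

theorem word4 : ev [0, 2, 0, 2, 0, 1, 0, 1] ^ 5 = 1 :=
  pow_eq_one (eq_of_check pm4 (by decide +kernel)) (by decide +kernel)

theorem word7 : ev [3] ^ 2 = 1 :=
  pow_eq_one (eq_of_check pm7 (by decide +kernel)) (by decide +kernel)

theorem word8 : ev [3, 2, 0, 2, 0, 2, 0, 1, 0, 1, 0, 2, 0, 2, 3, 1, 0, 1, 0, 2, 0, 2, 0, 1, 0, 1, 0, 1] ^ 1 = 1 :=
  pow_eq_one (eq_of_check pm8 (by decide +kernel)) (by decide +kernel)

theorem word9 : ev [3, 0] ^ 2 = 1 :=
  pow_eq_one (eq_of_check pm9 (by decide +kernel)) (by decide +kernel)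

theorem word10 : ev [1, 0, 1, 0, 2, 0, 1, 0, 2, 3, 1, 0, 2, 0, 1, 0, 2, 0] ^ 3 = 1 :=
  pow_eq_one (eq_of_check pm10 (by decide +kernel)) (by decide +kernel)

end Cfsg.Agent.J4Rep94
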