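import Cfsg.Agent.J4Rep94.Words0
import Cfsg.Agent.J4Rep94.Words1
import Cfsg.Agent.J4Rep94.Words2

/-!
# A nontrivial homomorphism from the presented Janko group `J₄` into a finite group
-/

set_option autoImplicit false
set_option maxRecDepth 100000

namespace Cfsg.Agent.J4Rep94

open Cfsg.Spor

theorem rels_kill : ∀ r ∈ Cfsg.Spor.coxRelators J4.edges ∪ {r | r ∈ J4.extra},
    FreeGroup.lift gv r = 1 := by
  intro r hr
  rcases hr with ⟨a, ha, -⟩ | hr
  · simp [Cfsg.Spor.coxNodes, J4.edges] at ha
  have hx : px⁻¹ = px := px_inv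
  have ht : pt⁻¹ = pt := pt_inv
  simp only [Set.mem_setOf_eq, J4.extra, List.mem_cons, List.not_mem_nil, or_false] at hr
  rcases hr with rfl | rfl | rfl | rfl | rfl | rfl | rfl | rfl | rfl | rfl | rfl | rfl
  · have h := word0
    simpa [ev_append, ev, lv, gv, hx, ht, mul_inv_rev, pow_succ, mul_assoc] using h
  · have h := word1
    simpa [ev_append, ev, lv, gv, hx, ht, mul_inv_rev, pow_succ, mul_assoc] using h
  · have h := word2
    simpa [ev_append, ev, lv, gv, hx, ht, mul_inv_rev, pow_succ, mul_assoc] using h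
  · have h := word3
    simpa [ev_append, ev, lv, gv, hx, ht, mul_inv_rev, pow_succ, mul_assoc] using h
  · have h := word4
    simpa [ev_append, ev, lv, gv, hx, ht, mul_inv_rev, pow_succ, mul_assoc] using h
  · have h := word5
    simpa [ev_append, ev, lv, gv, hx, ht, mul_inv_rev, pow_succ, mul_assoc] using h
  · have h := word6
    simpa [ev_append, ev, lv, gv, hx, ht, mul_inv_rev, pow_succ, mul_assoc] using h
  · have h := word7
    simpa [ev_append, ev, lv, gv, hx, ht, mul_inv_rev, pow_succ, mul_assoc] using h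
  · have h := word8
    simpa [ev_append, ev, lv, gv, hx, ht, mul_inv_rev, pow_succ, mul_assoc] using h
  · have h := word9
    simpa [ev_append, ev, lv, gv, hx, ht, mul_inv_rev, pow_succ, mul_assoc] using h
  · have h := word10
    simpa [ev_append, ev, lv, gv, hx, ht, mul_inv_rev, pow_succ, mul_assoc] using h
  · have h := word11
    simpa [ev_append, ev, lv, gv, hx, ht, mul_inv_rev, pow_succ, mul_assoc] using h

/-- The homomorphism. -/
def rho : Cfsg.Spor.J4 →* Equiv.Perm Bv := PresentedGroup.toGroup rels_kill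

theorem rho_x_ne_one : rho (PresentedGroup.mk _ J4.x) ≠ 1 := by
  intro h
  have h1 : rho (PresentedGroup.of J4.Gen.x) = 1 := h
  rw [rho, PresentedGroup.toGroup.of] at h1
  have h2 := congrArg (fun p : Equiv.Perm Bv => (p ⟨2, by norm_num⟩).1) h1
  exact absurd h2 (by decide +kernel)

end Cfsg.Agent.J4Rep94
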