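import Cfsg.Agent.J4Rep94.Hom
import Cfsg.Agent.J4Rep94.B1320.Cert
import Cfsg.Agent.J4Rep94.M672.Cert
import Cfsg.Agent.J4Rep94.M276.Cert
import Cfsg.Agent.Lib.Golay.Order
import Cfsg.Agent.Lib.Golay.Simple

/-!
# The subgroup of the presented `J₄` generated by `x` and `y` is `Cfsg.M24`
-/

set_option autoImplicit false
set_option maxRecDepth 100000

namespace Cfsg.Agent.J4Rep94

open Cfsg.Agent.CosetEnum Cfsg.Agent.Golay Cfsg.Spor

theorem wspan_top : wspan val7 M276.gens = ⊤ := by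
  rw [eq_top_iff, ← PresentedGroup.closure_range_of, Subgroup.closure_le]
  rintro _ ⟨g, rfl⟩
  cases g
  · have h := evalWord_mem_wspan val7 (Ws := M276.gens) (W := [0]) (by decide)
    simpa [evalWord, val7, letv] using h
  · have h := evalWord_mem_wspan val7 (Ws := M276.gens) (W := [1]) (by decide)
    simpa [evalWord, val7, letv] using h

theorem card_P7_le : Nat.card P7 ≠ 0 ∧ Nat.card P7 ≤ 244823040 := by
  obtain ⟨a0, a1⟩ := B1320.result_index
  obtain ⟨b0, b1⟩ := M672.result_index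
  obtain ⟨c0, c1⟩ := M276.result_index
  rw [show B1320.subs = [] from rfl, wspan_nil, Subgroup.relIndex_bot_left] at a0 a1
  rw [show M672.subs = B1320.gens from rfl] at b0 b1
  rw [show M276.subs = M672.gens from rfl, wspan_top] at c0 c1
  have hab : wspan val7 B1320.gens ≤ wspan val7 M672.gens := wspan_mono _ (by decide)
  have h1 : Nat.card (wspan val7 M672.gens) =
      Nat.card (wspan val7 B1320.gens) *
        (wspan val7 B1320.gens).relIndex (wspan val7 M672.gens) := by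
    rw [← Subgroup.relIndex_bot_left, ← Subgroup.relIndex_bot_left,
      Subgroup.relIndex_mul_relIndex _ _ _ bot_le hab]
  have h2 : Nat.card P7 =
      Nat.card (wspan val7 M672.gens) * (wspan val7 M672.gens).relIndex ⊤ := by
    rw [← Subgroup.card_top (G := P7), ← Subgroup.relIndex_bot_left,
      ← Subgroup.relIndex_bot_left, Subgroup.relIndex_mul_relIndex _ _ _ bot_le le_top]
  rw [h2, h1]
  refine ⟨Nat.mul_ne_zero (Nat.mul_ne_zero a0 b0) c0, ?_⟩
  exact (Nat.mul_le_mul (Nat.mul_le_mul a1 b1) c1).trans (by norm_num)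

theorem pi24_range : pi24.range = Cfsg.M24 := by
  refine le_antisymm pi24_range_le ?_
  rw [← M24_eq_closure, Subgroup.closure_le]
  have key : ∀ (W l : List ℕ) (σ : Equiv.Perm GolayPt), Tab σ l → wordTab W = l → σ ∈ pi24.range :=
    fun W l σ hσ hW => ⟨evalWord val7 W, by
      rw [pi24_word]; exact tab_unique (hW ▸ tab_word W) hσ⟩
  rintro g (rfl | rfl | rfl)
  · exact key [0, 1, 0, 2, 0, 2, 0, 2, 0, 2, 0, 2, 0, 2, 0, 2, 0, 1, 0, 1, 0, 2, 0, 2, 0, 2, 0, 2, 0, 2, 0, 2, 0, 1, 0, 2, 0, 1, 0, 2, 0, 1] _ _ tab_shift (by decide +kernel)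
  · exact key [0, 1, 0, 1, 0, 1, 0, 2, 0, 1, 0, 1, 0, 1, 0, 1, 0, 1, 0, 1, 0, 1, 0, 1, 0, 1, 0, 2, 0, 2, 0, 2, 0, 2, 0, 1, 0, 1, 0, 1, 0, 1, 0, 2, 0, 2, 0, 1, 0, 1, 0, 2, 0, 1, 0, 2, 0, 1, 0, 2] _ _ tab_projInv (by decide +kernel)
  · exact key [0, 1, 0, 2, 0, 2, 0, 2, 0, 2, 0, 1, 0, 2, 0, 2, 0, 1, 0, 1, 0, 1, 0, 2, 0, 1, 0, 1, 0, 1, 0, 1, 0, 2, 0, 2, 0, 1, 0, 1, 0, 1, 0, 2, 0, 2, 0, 1, 0, 1, 0, 1, 0, 1, 0, 2] _ _ tab_cubeTwist (by decide +kernel)

/-- The seven relators present `Cfsg.M24`. -/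
theorem p7_equiv_m24 : Nonempty (P7 ≃* Cfsg.M24) := by
  obtain ⟨h0, hle⟩ := card_P7_le
  haveI : Finite P7 := Nat.finite_of_card_ne_zero h0
  have hc : Nat.card pi24.range = 244823040 := by rw [pi24_range]; exact card_M24
  have hsurj := pi24.rangeRestrict_surjective
  have hcard : Nat.card P7 = Nat.card pi24.range :=
    le_antisymm (hle.trans hc.symm.le) (Nat.card_le_card_of_surjective _ hsurj)
  have hbij := (Nat.bijective_iff_surjective_and_card pi24.rangeRestrict).2 ⟨hsurj, hcard⟩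
  exact ⟨(MulEquiv.ofBijective _ hbij).trans (MulEquiv.subgroupCongr pi24_range)⟩

/-- The images of the generators in `J₄`. -/
def vJ : G2 → Cfsg.Spor.J4
  | .x => PresentedGroup.of J4.Gen.x
  | .y => PresentedGroup.of J4.Gen.y

theorem vJ_rels : ∀ r ∈ rels7, FreeGroup.lift vJ r = 1 := by
  have hmk : ∀ r ∈ J4.extra, PresentedGroup.mk
      (Cfsg.Spor.coxRelators J4.edges ∪ {r | r ∈ J4.extra}) r = 1 := fun r hr =>
    PresentedGroup.one_of_mem (Or.inr hr)
  intro r hr
  let ι : G2 → FreeGroup J4.Gen := fun g => match g with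
    | .x => J4.x
    | .y => J4.y
  have hl : FreeGroup.lift vJ = (PresentedGroup.mk
      (Cfsg.Spor.coxRelators J4.edges ∪ {r | r ∈ J4.extra})).comp (FreeGroup.lift ι) :=
    FreeGroup.ext_hom _ _ fun g => by
      cases g <;> simp [vJ, ι, PresentedGroup.of]
  rw [hl, MonoidHom.comp_apply]
  apply hmk
  simp only [rels7, List.mem_cons, List.not_mem_nil, or_false] at hr
  rcases hr with rfl | rfl | rfl | rfl | rfl | rfl | rfl <;>
    simp [J4.extra, ι]

/-- The map from the seven-relator group into `J₄`. -/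
def psi : P7 →* Cfsg.Spor.J4 := PresentedGroup.toGroup vJ_rels

theorem psi_range : psi.range = (Subgroup.closure ({J4.x, J4.y} : Set (FreeGroup J4.Gen))).map
    (PresentedGroup.mk (Cfsg.Spor.coxRelators J4.edges ∪ {r | r ∈ J4.extra})) := by
  rw [MonoidHom.range_eq_map, ← PresentedGroup.closure_range_of, MonoidHom.map_closure,
    MonoidHom.map_closure, ← Set.range_comp, Set.image_pair]
  congr 1
  ext g
  constructor
  · rintro ⟨i, rfl⟩
    cases i
    · exact Or.inl (PresentedGroup.toGroup.of vJ_rels)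
    · exact Or.inr (PresentedGroup.toGroup.of vJ_rels)
  · rintro (rfl | rfl)
    · exact ⟨.x, PresentedGroup.toGroup.of vJ_rels⟩
    · exact ⟨.y, PresentedGroup.toGroup.of vJ_rels⟩

theorem psi_injective : Function.Injective psi := by
  obtain ⟨e⟩ := p7_equiv_m24
  haveI : IsSimpleGroup Cfsg.M24 := isSimpleGroup_M24
  haveI : IsSimpleGroup P7 := e.isSimpleGroup_congr.2 inferInstance
  rcases IsSimpleGroup.eq_bot_or_eq_top_of_normal psi.ker inferInstance with h | h
  · exact (MonoidHom.ker_eq_bot_iff psi).1 h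
  · exfalso
    have h1 : psi (PresentedGroup.of G2.x) = 1 := by
      rw [← MonoidHom.mem_ker, h]; trivial
    rw [psi, PresentedGroup.toGroup.of] at h1
    exact rho_x_ne_one (by rw [show PresentedGroup.mk _ J4.x = vJ .x from rfl, h1, map_one])

end Cfsg.Agent.J4Rep94
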