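import Cfsg.Prelude.Def_Spor_J4
import Cfsg.Agent.Lib.CosetEnum.Bound
import Cfsg.Agent.Lib.Golay.Generators

/-!
# A seven-relator group on two generators mapping to `Cfsg.M24`
-/

set_option autoImplicit false
set_option maxRecDepth 100000

namespace Cfsg.Agent.J4Rep94

open Cfsg.Agent.CosetEnum Cfsg.Agent.Golay

/-- The two generators. -/
inductive G2
  | x
  | y

/-- The relators. -/
def rels7 : List (FreeGroup G2) :=
  let x : FreeGroup G2 := FreeGroup.of G2.x
  let y : FreeGroup G2 := FreeGroup.of G2.y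
  [x ^ 2,
  y ^ 3,
  (x * y) ^ 23,
  (x⁻¹ * y⁻¹ * x * y) ^ 12,
  (x⁻¹ * (y * x * y)⁻¹ * x * (y * x * y)) ^ 5,
  (x * y * ((x * y * x * (y⁻¹)) ^ 3)) ^ 4,
  ((x * y * x * y * x * (y⁻¹)) ^ 3) * ((x * y * x * (y⁻¹) * x * (y⁻¹)) ^ 3)]

/-- The group. -/
abbrev P7 : Type := PresentedGroup {r : FreeGroup G2 | r ∈ rels7}

/-- The value of a letter: `0` is `x`, `1` is `y`, `2` is `y⁻¹`. -/
def letv {A : Type} [Group A] (v : G2 → A) : ℕ → A
  | 0 => v .x
  | 1 => v .y
  | 2 => (v .y)⁻¹
  | _ => 1

/-- The letters in the group. -/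
def val7 : ℕ → P7 := letv PresentedGroup.of

/-- The words of the relators and of the inverse laws. -/
def baseRels : List (List ℕ) :=
  [[0, 0], [1, 2], [2, 1], [1, 1, 1], repWord [0, 1] 23, repWord [0, 2, 0, 1] 12,
    repWord [0, 2, 0, 2, 0, 1, 0, 1] 5, repWord ([0, 1] ++ repWord [0, 1, 0, 2] 3) 4,
    repWord [0, 1, 0, 1, 0, 2] 3 ++ repWord [0, 1, 0, 2, 0, 2] 3]

theorem baseRels_one {A : Type} [Group A] {v : G2 → A}
    (h : ∀ r ∈ rels7, FreeGroup.lift v r = 1) : ∀ W ∈ baseRels, evalWord (letv v) W = 1 := by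
  simp only [rels7, List.forall_mem_cons, List.not_mem_nil, false_imp_iff, implies_true, and_true,
    map_mul, map_pow, map_inv, FreeGroup.lift_apply_of] at h
  obtain ⟨h0, h1, h2, h3, h4, h5, h6⟩ := h
  have hx : (v .x)⁻¹ = v .x := inv_eq_of_mul_eq_one_right (by rw [← pow_two]; exact h0)
  rw [hx] at h3 h4
  rw [mul_inv_rev, mul_inv_rev, hx] at h4
  simp only [mul_assoc] at h3 h4 h5 h6
  simp only [baseRels, List.forall_mem_cons, List.not_mem_nil, false_imp_iff, implies_true, and_true,
    evalWord_repWord, evalWord_append, evalWord, letv, mul_one, mul_assoc, mul_inv_cancel,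
    inv_mul_cancel]
  exact ⟨by rw [← pow_two]; exact h0, trivial, trivial, by rw [← h1]; simp [pow_succ, mul_assoc],
    h2, h3, h4, h5, h6⟩

theorem val7_base : ∀ W ∈ baseRels, evalWord val7 W = 1 := by
  refine baseRels_one fun r hr => ?_
  have h : FreeGroup.lift (PresentedGroup.of : G2 → P7) =
      PresentedGroup.mk {r : FreeGroup G2 | r ∈ rels7} :=
    FreeGroup.ext_hom _ _ fun _ => by simp [PresentedGroup.of]
  rw [h]
  exact PresentedGroup.one_of_mem hr

theorem val7_letters {S : Sys} (hnl : S.nl = 3)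
    (hinv : (S.inv 0, S.inv 1, S.inv 2, S.inv 3) = (0, 2, 1, 3)) : Letters S val7 where
  ident := by rw [hnl]; rfl
  inv l hl := by
    simp only [Prod.mk.injEq] at hinv
    obtain ⟨i0, i1, i2, i3⟩ := hinv
    rw [hnl] at hl
    interval_cases l
    · rw [i0]
      symm
      apply inv_eq_of_mul_eq_one_right
      have := val7_base [0, 0] List.mem_cons_self
      simpa [evalWord] using this
    · rw [i1]; rfl
    · rw [i2]; exact (inv_inv _).symm
    · rw [i3]; exact inv_one.symm

/-- The table of the image of `x`. -/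
def xTab : List ℕ := [3, 6, 15, 0, 12, 18, 1, 11, 10, 20, 8, 7, 4, 23, 16, 2, 14, 22, 5, 21, 9, 19, 17, 13]

/-- The table of the image of `y`. -/
def yTab : List ℕ := [0, 20, 17, 2, 1, 11, 5, 22, 13, 9, 19, 6, 12, 23, 10, 15, 16, 3, 18, 14, 4, 7, 21, 8]

/-- The table of the image of `y⁻¹`. -/
def y2Tab : List ℕ := [0, 4, 3, 17, 20, 6, 11, 21, 23, 9, 14, 5, 12, 8, 19, 15, 16, 2, 18, 10, 1, 22, 7, 13]

/-- The permutations of the generators. -/
noncomputable def v24 : G2 → Equiv.Perm GolayPt
  | .x => permOf xTab (by decide +kernel)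
  | .y => permOf yTab (by decide +kernel)

/-- The table of a letter. -/
def letTab : ℕ → List ℕ
  | 0 => xTab
  | 1 => yTab
  | 2 => y2Tab
  | _ => idTab

/-- The table of a word. -/
def wordTab : List ℕ → List ℕ
  | [] => idTab
  | l :: W => comp (letTab l) (wordTab W)

theorem tab_letter : ∀ l, Tab (letv v24 l) (letTab l)
  | 0 => tab_permOf (l := xTab) (by decide +kernel)
  | 1 => tab_permOf (l := yTab) (by decide +kernel)
  | 2 => by
    have h : v24 .y * permOf y2Tab (by decide +kernel) = 1 :=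
      tab_unique (l := idTab) (by
        have := (tab_permOf (l := yTab) (by decide +kernel)).mul
          (tab_permOf (l := y2Tab) (by decide +kernel))
        rwa [show comp yTab y2Tab = idTab by decide +kernel] at this) tab_one
    show Tab (v24 .y)⁻¹ y2Tab
    rw [inv_eq_of_mul_eq_one_right h]
    exact tab_permOf _
  | _ + 3 => tab_one

theorem tab_word : ∀ W, Tab (evalWord (letv v24) W) (wordTab W)
  | [] => tab_one
  | l :: W => (tab_letter l).mul (tab_word W)

theorem word24_eq_one {W : List ℕ} (h : wordTab W = idTab) : evalWord (letv v24) W = 1 :=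
  tab_unique (tab_word W) (h ▸ tab_one)

theorem v24_rels : ∀ r ∈ rels7, FreeGroup.lift v24 r = 1 := by
  have e : ∀ W ∈ baseRels, evalWord (letv v24) W = 1 := fun W hW =>
    word24_eq_one ((List.all_eq_true (p := fun W => decide (wordTab W = idTab))).mp
      (by decide +kernel) W hW |> of_decide_eq_true)
  simp only [baseRels, List.forall_mem_cons, List.not_mem_nil, false_imp_iff, implies_true, and_true,
    evalWord_repWord, evalWord_append, evalWord, letv, mul_one] at e
  obtain ⟨h0, -, -, h1, h2, h3, h4, h5, h6⟩ := e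
  have hx : (v24 .x)⁻¹ = v24 .x := inv_eq_of_mul_eq_one_right h0
  simp only [rels7, List.forall_mem_cons, List.not_mem_nil, false_imp_iff, implies_true, and_true,
    map_mul, map_pow, map_inv, FreeGroup.lift_apply_of, mul_inv_rev, hx, mul_assoc, pow_two]
  refine ⟨h0, ?_, h2, h3, h4, h5, h6⟩
  rw [← h1]
  simp [pow_succ, mul_assoc]

/-- The homomorphism to the permutations of the 24 points. -/
noncomputable def pi24 : P7 →* Equiv.Perm GolayPt := PresentedGroup.toGroup v24_rels

theorem pi24_word : ∀ W, pi24 (evalWord val7 W) = evalWord (letv v24) W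
  | [] => map_one _
  | l :: W => by
    show pi24 (val7 l * evalWord val7 W) = letv v24 l * _
    rw [map_mul, pi24_word W]
    congr 1
    match l with
    | 0 => exact PresentedGroup.toGroup.of v24_rels
    | 1 => exact PresentedGroup.toGroup.of v24_rels
    | 2 =>
      show pi24 (PresentedGroup.of G2.y)⁻¹ = _
      rw [map_inv]; exact congrArg (·⁻¹) (PresentedGroup.toGroup.of v24_rels)
    | _ + 3 => exact map_one _

theorem v24_mem (g : G2) : v24 g ∈ M24 := by
  cases g
  · exact (tab_permOf (l := xTab) (by decide +kernel)).mem_M24 (by decide +kernel)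
  · exact (tab_permOf (l := yTab) (by decide +kernel)).mem_M24 (by decide +kernel)

theorem pi24_range_le : pi24.range ≤ M24 := by
  rw [MonoidHom.range_eq_map, Subgroup.map_le_iff_le_comap,
    ← PresentedGroup.closure_range_of, Subgroup.closure_le]
  rintro _ ⟨g, rfl⟩
  rw [SetLike.mem_coe, Subgroup.mem_comap, pi24, PresentedGroup.toGroup.of]
  exact v24_mem g

end Cfsg.Agent.J4Rep94
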