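import Cfsg.Prelude.Def_Spor_J4
import Cfsg.Agent.J4Rep94.Basic

/-!
# A nontrivial homomorphism from the presented Janko group `J₄` into a finite group
-/

set_option autoImplicit false
set_option maxRecDepth 100000

namespace Cfsg.Agent.J4Rep94

open Cfsg.Spor

/-- The matrix acting as the inverse of a letter: `0` is `x`, `1` is `y`, `2` is `y⁻¹`, `3` is `t`. -/
def invMat : ℕ → List ℕ
  | 0 => mx
  | 1 => my2
  | 2 => my
  | _ => mt

/-- The permutation of `x`. -/
def px : Equiv.Perm Bv :=
  mkPerm mx mx (by decide +kernel) (by decide +kernel) (by decide +kernel) (by decide +kernel)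

/-- The permutation of `y`. -/
def py : Equiv.Perm Bv :=
  mkPerm my2 my (by decide +kernel) (by decide +kernel) (by decide +kernel) (by decide +kernel)

/-- The permutation of `t`. -/
def pt : Equiv.Perm Bv :=
  mkPerm mt mt (by decide +kernel) (by decide +kernel) (by decide +kernel) (by decide +kernel)

/-- The images of the generators. -/
def gv : J4.Gen → Equiv.Perm Bv
  | .x => px
  | .y => py
  | .t => pt

/-- The permutation of a letter. -/
def lv : ℕ → Equiv.Perm Bv
  | 0 => px
  | 1 => py
  | 2 => py⁻¹
  | _ => pt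

/-- The product of the letters of a word. -/
def ev : List ℕ → Equiv.Perm Bv
  | [] => 1
  | l :: ls => lv l * ev ls

theorem ev_apply : ∀ (W : List ℕ) (v : Bv), (ev W v).1 = vmList (W.reverse.map invMat) v.1
  | [], v => rfl
  | l :: ls, v => by
    show (lv l (ev ls v)).1 = _
    rw [List.reverse_cons, List.map_append, vmList_append, ← ev_apply ls v]
    simp only [List.map_cons, List.map_nil, vmList, force_eq]
    match l with
    | 0 => rfl
    | 1 => rfl
    | 2 => rfl
    | _ + 3 => rfl

theorem ev_eq_one {W : List ℕ} (h : checkId (W.reverse.map invMat) 112 = true) : ev W = 1 := by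
  ext v
  rw [ev_apply, id_of_check h v.1 v.2]
  rfl

/-- A repeated word. -/
def rp (u : List ℕ) : ℕ → List ℕ
  | 0 => []
  | n + 1 => u ++ rp u n

theorem ev_append : ∀ u v : List ℕ, ev (u ++ v) = ev u * ev v
  | [], v => by simp [ev]
  | l :: ls, v => by simp [ev, ev_append ls v, mul_assoc]

theorem ev_rp (u : List ℕ) : ∀ n, ev (rp u n) = ev u ^ n
  | 0 => rfl
  | n + 1 => by rw [rp, ev_append, ev_rp u n, pow_succ']

theorem px_inv : px⁻¹ = px := rfl

theorem pt_inv : pt⁻¹ = pt := rfl

end Cfsg.Agent.J4Rep94
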