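import Cfsg.Agent.J4Rep94.Perms

/-!
# Checking a product of matrices against a single matrix
-/

set_option autoImplicit false

namespace Cfsg.Agent.J4Rep94

/-- Two products of matrices agree on every unit vector of length below `n`. -/
def checkEq (Ms Ns : List (List ℕ)) (n : ℕ) : Bool :=
  (List.range n).all fun i => Nat.beq (vmList Ms (2 ^ i)) (vmList Ns (2 ^ i))

theorem eq_of_checkEq {Ms Ns : List (List ℕ)} : ∀ {n : ℕ}, checkEq Ms Ns n = true →
    ∀ v < 2 ^ n, vmList Ms v = vmList Ns v
  | 0, _, v, hv => by
    obtain rfl : v = 0 := by simpa using hv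
    rw [vmList_zero, vmList_zero]
  | n + 1, h, v, hv => by
    have hall : ∀ i < n + 1, vmList Ms (2 ^ i) = vmList Ns (2 ^ i) := fun i hi =>
      Nat.eq_of_beq_eq_true (List.all_eq_true.mp h i (List.mem_range.mpr hi))
    have h' : checkEq Ms Ns n = true := List.all_eq_true.mpr fun i hi => by
      rw [hall i (Nat.lt_succ_of_lt (List.mem_range.mp hi))]; exact Nat.beq_refl _
    by_cases hlt : v < 2 ^ n
    · exact eq_of_checkEq h' v hlt
    · have hb : v.testBit n = true := by
        obtain ⟨j, hj, hjn⟩ := Nat.exists_ge_and_testBit_of_ge_two_pow (Nat.le_of_not_lt hlt)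
        rcases Nat.lt_or_ge j (n + 1) with h1 | h1
        · exact (show j = n by omega) ▸ hjn
        · have hlt' : v < 2 ^ j := lt_of_lt_of_le hv (Nat.pow_le_pow_right (by norm_num) h1)
          rw [Nat.testBit_lt_two_pow hlt'] at hjn
          exact absurd hjn Bool.false_ne_true
      have hrest : v ^^^ 2 ^ n < 2 ^ n := by
        apply Nat.lt_pow_two_of_testBit
        intro i hi
        rw [Nat.testBit_xor, Nat.testBit_two_pow]
        rcases Nat.lt_or_ge n i with h1 | h1
        · have : v.testBit i = false :=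
            Nat.testBit_lt_two_pow (lt_of_lt_of_le hv (Nat.pow_le_pow_right (by norm_num) h1))
          simp [this, Nat.ne_of_lt h1]
        · obtain rfl : i = n := by omega
          simp [hb]
      have hv' : v = (v ^^^ 2 ^ n) ^^^ 2 ^ n := by simp [Nat.xor_assoc]
      rw [hv', vmList_xor Ms, vmList_xor Ns, eq_of_checkEq h' _ hrest, hall n n.lt_succ_self]

/-- The word `u` acts through the matrix `C`. -/
def Acts (u : List ℕ) (C : List ℕ) : Prop := ∀ v : Bv, (ev u v).1 = vm C v.1

theorem eq_of_check {u : List ℕ} (C : List ℕ)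
    (h : checkEq (u.reverse.map invMat) [C] 112 = true) : Acts u C := fun v => by
  rw [ev_apply, eq_of_checkEq h v.1 v.2]
  simp [vmList, force_eq]

theorem eq_of_append {u w : List ℕ} {A B C : List ℕ} (hA : Acts u A) (hB : Acts w B)
    (h : checkEq [B, A] [C] 112 = true) : Acts (u ++ w) C := fun v => by
  rw [ev_append, Equiv.Perm.mul_apply, hA, hB]
  simpa [vmList, force_eq] using eq_of_checkEq h v.1 v.2

theorem pow_eq_one {u C : List ℕ} {k : ℕ} (hC : Acts u C)
    (h : checkId (List.replicate k C) 112 = true) : ev u ^ k = 1 := by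
  have hk : ∀ (m : ℕ) (v : Bv), ((ev u ^ m) v).1 = vmList (List.replicate m C) v.1 := by
    intro m
    induction m with
    | zero => intro v; rfl
    | succ m ih =>
      intro v
      rw [pow_succ (ev u), Equiv.Perm.mul_apply, ih, hC, List.replicate_succ]
      simp [vmList, force_eq]
  ext v
  rw [hk, id_of_check h v.1 v.2]
  rfl

end Cfsg.Agent.J4Rep94
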